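import Mathlib

/-!
# Helper39 / S3366: the group `3^{1+2} : SL_2(3)` of order 648

Definitions shared by all pieces:

* `cm a b = a b a⁻¹ b⁻¹`;
* `Rel r1 r2 i j d`: a polycyclic presentation of `3^{1+2} : SL_2(3)` (Todd–Coxeter: order 648);
* `Base R Z u`: the abstract situation (`R = O_3(X)` extraspecial of order 27 and exponent 3 with centre
  `Z`, `X / R ≅ SL_2(3)` with `u` mapping to the central involution, `O_2(X) = 1`);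
* `Inv R t`: the elements of `R` inverted by `t`.
-/

set_option autoImplicit false

namespace Cfsg.Agent.Helper39.X648

/-- the commutator `a b a⁻¹ b⁻¹` -/
def cm {H : Type*} [Group H] (a b : H) : H := a * b * a⁻¹ * b⁻¹

/-- the relations -/
structure Rel {H : Type*} [Group H] (r1 r2 i j d : H) : Prop where
  r1_3 : r1 ^ 3 = 1
  r2_3 : r2 ^ 3 = 1
  c_3 : cm r1 r2 ^ 3 = 1
  c_r1 : cm r1 r2 * r1 = r1 * cm r1 r2
  c_r2 : cm r1 r2 * r2 = r2 * cm r1 r2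
  c_i : cm r1 r2 * i = i * cm r1 r2
  c_j : cm r1 r2 * j = j * cm r1 r2
  c_d : cm r1 r2 * d = d * cm r1 r2
  i_4 : i ^ 4 = 1
  j_sq : j * j = i * i
  j_i : j * i * j⁻¹ = i⁻¹
  d_3 : d ^ 3 = 1
  i_r1 : i * r1 * i⁻¹ = r2
  i_r2 : i * r2 * i⁻¹ = r1⁻¹
  j_r1 : j * r1 * j⁻¹ = r1 * r2 * cm r1 r2
  j_r2 : j * r2 * j⁻¹ = r1 * r2⁻¹ * (cm r1 r2)⁻¹
  d_r1 : d * r1 * d⁻¹ = r1
  d_r2 : d * r2 * d⁻¹ = r1 * r2 * cm r1 r2
  d_i : d * i * d⁻¹ = j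
  d_j : d * j * d⁻¹ = i * j

/-- the abstract situation -/
structure Base {X : Type*} [Group X] (R Z : Subgroup X) (u : X) : Prop where
  cardX : Nat.card X = 648
  cardR : Nat.card R = 27
  cardZ : Nat.card Z = 3
  normR : R.Normal
  Z_le : Z ≤ R
  mem_Z : ∀ z : X, z ∈ Z ↔ z ∈ R ∧ ∀ r ∈ R, r * z = z * r
  exp3 : ∀ r ∈ R, r ^ 3 = 1
  comm_mem : ∀ r ∈ R, ∀ s ∈ R, r * s * r⁻¹ * s⁻¹ ∈ Z
  noO2 : ∀ N : Subgroup X, N.Normal → IsPGroup 2 N → N = ⊥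
  u_not : u ∉ R
  u_sq : u * u ∈ R
  u_cen : ∀ g : X, g * u * g⁻¹ * u⁻¹ ∈ R
  u_uniq : ∀ g : X, g * g ∈ R → g ∈ R ∨ g * u⁻¹ ∈ R
  no_idx2 : ∀ N : Subgroup X, R ≤ N → N.index = 2 → False
  u_normal : ∀ N : Subgroup X, N.Normal → R ≤ N → N ≠ R → u ∈ N
  no8 : ∀ g : X, g ^ 8 ∈ R → g ^ 4 ∈ R
  syl2 : ∃ M : Subgroup X, M.Normal ∧ R ≤ M ∧ Nat.card M = 216

/-- the elements of `R` inverted by `t` -/
def Inv {X : Type*} [Group X] (R : Subgroup X) (t : X) : Set X :=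
  {r | r ∈ R ∧ t * r * t⁻¹ = r⁻¹}

/-- the properties of the quaternion subgroup `Q ≤ C_X(t)` -/
structure IsQ {X : Type*} [Group X] (t : X) (Q : Subgroup X) : Prop where
  card : Nat.card Q = 8
  comm : ∀ q ∈ Q, q * t = t * q
  norm : ∀ k : X, k * t = t * k → ∀ q ∈ Q, k * q * k⁻¹ ∈ Q
  t_mem : t ∈ Q
  sq : ∀ q ∈ Q, q ≠ 1 → q = t ∨ q * q = t

/-- `Base` together with an involution `t` above `u` and the first facts about it -/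
structure Setup {X : Type*} [Group X] (R Z : Subgroup X) (u t : X) : Prop where
  base : Base R Z u
  Zcen : ∀ z ∈ Z, ∀ g : X, g * z = z * g
  CR : ∀ g : X, (∀ r ∈ R, g * r = r * g) → g ∈ Z
  t_ord : orderOf t = 2
  t_u : t * u⁻¹ ∈ R
  frat : ∀ g : X, ∃ r ∈ R, (r⁻¹ * g) * t = t * (r⁻¹ * g)
  fix : ∀ r ∈ R, t * r = r * t → r ∈ Z
  inv : ∀ r ∈ R, t * r * t⁻¹ * r ∈ Z
  rep1 : ∀ r ∈ R, ∃ z ∈ Z, r * z ∈ Inv R t
  rep2 : ∀ r ∈ Inv R t, ∀ z ∈ Z, r * z ∈ Inv R t → z = 1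

/-- `Setup` together with the quaternion group `Q`, which is regular on `Inv R t ∖ {1}` -/
structure QSetup {X : Type*} [Group X] (R Z : Subgroup X) (u t : X) (Q : Subgroup X) : Prop where
  setup : Setup R Z u t
  isQ : IsQ t Q
  reg : ∀ r ∈ Inv R t, r ≠ 1 → ∀ s ∈ Inv R t, s ≠ 1 →
    ∃ q ∈ Q, q * r * q⁻¹ = s ∧ ∀ q' ∈ Q, q' * r * q'⁻¹ = s → q' = q

/-- the chosen elements `i ∈ Q` and `r1`, with `r2 = i r1 i⁻¹` and `c = [r1, r2]` -/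
structure Gens {X : Type*} [Group X] (R Z : Subgroup X) (t : X) (Q : Subgroup X) (i r1 : X) :
    Prop where
  i_mem : i ∈ Q
  i_ne1 : i ≠ 1
  i_net : i ≠ t
  r1_mem : r1 ∈ Inv R t
  r1_ne : r1 ≠ 1
  i_sq : i * i = t
  r2_mem : i * r1 * i⁻¹ ∈ Inv R t
  i_r2 : i * (i * r1 * i⁻¹) * i⁻¹ = r1⁻¹
  c_mem : cm r1 (i * r1 * i⁻¹) ∈ Z
  c_ne : cm r1 (i * r1 * i⁻¹) ≠ 1
  r12_mem : r1 * (i * r1 * i⁻¹) * cm r1 (i * r1 * i⁻¹) ∈ Inv R t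

/-! ### `SL_2(3)` -/

/-- `SL_2(3)` -/
abbrev SL23 : Type := Matrix.SpecialLinearGroup (Fin 2) (ZMod 3)

/-- `-1 ∈ SL_2(3)` -/
def wSL : SL23 := ⟨!![2, 0; 0, 2], by decide⟩

/-- the facts about `SL_2(3)` that are used (`w = -1`) -/
structure SLFacts (w : SL23) : Prop where
  card : Nat.card SL23 = 24
  w_ne : w ≠ 1
  w_sq : w * w = 1
  w_cen : ∀ g : SL23, g * w = w * g
  w_uniq : ∀ g : SL23, g * g = 1 → g = 1 ∨ g = w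
  w_mem : ∀ N : Subgroup SL23, N.Normal → N ≠ ⊥ → w ∈ N
  no_idx2 : ∀ N : Subgroup SL23, N.index = 2 → False
  no8 : ∀ g : SL23, g ^ 8 = 1 → g ^ 4 = 1
  syl2 : ∃ M : Subgroup SL23, M.Normal ∧ Nat.card M = 8

end Cfsg.Agent.Helper39.X648
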