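import Cfsg.Agent.Helper39.X648.Defs
import Cfsg.Agent.Helper13.SympTrans

/-!
# Helper39 / S3366: the concrete group — the stabiliser of a vector in `Sp_4(3)`
-/

set_option autoImplicit false

namespace Cfsg.Agent.Helper39.X648

open Matrix

/-- `Sp_4(3)` -/
abbrev Sp3 : Type := Matrix.symplecticGroup (Fin 2) (ZMod 3)

/-- the index type of the matrices -/
abbrev I4 : Type := Fin 2 ⊕ Fin 2

/-- the vector that is stabilised -/
def e0 : I4 → ZMod 3 := Pi.single (Sum.inl 0) 1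

/-- the stabiliser of `e0` -/
def St : Subgroup Sp3 where
  carrier := {g | (g : Matrix I4 I4 (ZMod 3)) *ᵥ e0 = e0}
  one_mem' := by
    show ((1 : Sp3) : Matrix I4 I4 (ZMod 3)) *ᵥ e0 = e0
    rw [show ((1 : Sp3) : Matrix I4 I4 (ZMod 3)) = 1 from rfl, Matrix.one_mulVec]
  mul_mem' {g h} hg hh := by
    show ((g * h : Sp3) : Matrix I4 I4 (ZMod 3)) *ᵥ e0 = e0
    rw [show ((g * h : Sp3) : Matrix I4 I4 (ZMod 3)) = (g : Matrix I4 I4 (ZMod 3)) * h from rfl,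
      ← Matrix.mulVec_mulVec, show (h : Matrix I4 I4 (ZMod 3)) *ᵥ e0 = e0 from hh]
    exact hg
  inv_mem' {g} hg := by
    show ((g⁻¹ : Sp3) : Matrix I4 I4 (ZMod 3)) *ᵥ e0 = e0
    have h1 : ((g⁻¹ : Sp3) : Matrix I4 I4 (ZMod 3)) * (g : Matrix I4 I4 (ZMod 3)) = 1 := by
      have : (g⁻¹ * g : Sp3) = 1 := inv_mul_cancel g
      exact congrArg Subtype.val this
    have h2 : (g : Matrix I4 I4 (ZMod 3)) *ᵥ e0 = e0 := hg
    calc ((g⁻¹ : Sp3) : Matrix I4 I4 (ZMod 3)) *ᵥ e0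
        = ((g⁻¹ : Sp3) : Matrix I4 I4 (ZMod 3)) *ᵥ ((g : Matrix I4 I4 (ZMod 3)) *ᵥ e0) := by rw [h2]
      _ = e0 := by rw [Matrix.mulVec_mulVec, h1, Matrix.one_mulVec]

theorem mem_St (g : Sp3) : g ∈ St ↔ (g : Matrix I4 I4 (ZMod 3)) *ᵥ e0 = e0 := Iff.rfl

/-- matrices of the generators (blocks w.r.t. `Fin 2 ⊕ Fin 2`) -/
def mR1 : Matrix I4 I4 (ZMod 3) := Matrix.fromBlocks !![1, 0; 0, 1] !![0, 2; 2, 0] !![0, 0; 0, 0] !![1, 0; 0, 1]

def mR2 : Matrix I4 I4 (ZMod 3) := Matrix.fromBlocks !![1, 1; 0, 1] !![0, 0; 0, 0] !![0, 0; 0, 0] !![1, 0; 2, 1]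

def mI : Matrix I4 I4 (ZMod 3) := Matrix.fromBlocks !![1, 0; 0, 0] !![0, 0; 0, 2] !![0, 0; 0, 1] !![1, 0; 0, 0]

def mJ : Matrix I4 I4 (ZMod 3) := Matrix.fromBlocks !![1, 0; 0, 1] !![0, 0; 0, 1] !![0, 0; 0, 1] !![1, 0; 0, 2]

def mD : Matrix I4 I4 (ZMod 3) := Matrix.fromBlocks !![1, 0; 0, 1] !![0, 0; 0, 1] !![0, 0; 0, 0] !![1, 0; 0, 1]

theorem mR1_mem : mR1 ∈ Matrix.symplecticGroup (Fin 2) (ZMod 3) := by
  rw [SymplecticGroup.mem_iff]; decide +kernel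

theorem mR2_mem : mR2 ∈ Matrix.symplecticGroup (Fin 2) (ZMod 3) := by
  rw [SymplecticGroup.mem_iff]; decide +kernel

theorem mI_mem : mI ∈ Matrix.symplecticGroup (Fin 2) (ZMod 3) := by
  rw [SymplecticGroup.mem_iff]; decide +kernel

theorem mJ_mem : mJ ∈ Matrix.symplecticGroup (Fin 2) (ZMod 3) := by
  rw [SymplecticGroup.mem_iff]; decide +kernel

theorem mD_mem : mD ∈ Matrix.symplecticGroup (Fin 2) (ZMod 3) := by
  rw [SymplecticGroup.mem_iff]; decide +kernel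

/-- the generators as elements of `Sp_4(3)` -/
def gR1 : Sp3 := ⟨mR1, mR1_mem⟩
def gR2 : Sp3 := ⟨mR2, mR2_mem⟩
def gI : Sp3 := ⟨mI, mI_mem⟩
def gJ : Sp3 := ⟨mJ, mJ_mem⟩
def gD : Sp3 := ⟨mD, mD_mem⟩

theorem gR1_mem : gR1 ∈ St := by rw [mem_St]; show mR1 *ᵥ e0 = e0; decide +kernel
theorem gR2_mem : gR2 ∈ St := by rw [mem_St]; show mR2 *ᵥ e0 = e0; decide +kernel
theorem gI_mem : gI ∈ St := by rw [mem_St]; show mI *ᵥ e0 = e0; decide +kernel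
theorem gJ_mem : gJ ∈ St := by rw [mem_St]; show mJ *ᵥ e0 = e0; decide +kernel
theorem gD_mem : gD ∈ St := by rw [mem_St]; show mD *ᵥ e0 = e0; decide +kernel

/-- the transvection `x ↦ x + f(x, e0) e0` as an element of `Sp_4(3)` -/
def gT : Sp3 := Cfsg.Agent.Helper13.sympTransvectionElt e0 1

theorem gT_val : (gT : Matrix I4 I4 (ZMod 3)) = Cfsg.sympTransvection 2 e0 1 := rfl

/-- the image of the transvection in `PSp_4(3)` -/
def cT : Sp3 ⧸ Subgroup.center Sp3 := QuotientGroup.mk gT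

end Cfsg.Agent.Helper39.X648
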