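import Cfsg.Agent.Helper39.X648.Conc
import Cfsg.Agent.Helper33.X648B1
import Cfsg.Agent.Helper33.X648B2
import Cfsg.Agent.Helper65.X648B3
import Cfsg.Agent.Helper33.X648B4
import Cfsg.Agent.Helper65.X648B5
import Cfsg.Agent.Helper33.X648B6
import Cfsg.Agent.Helper22.X648S1
import Cfsg.Agent.Helper66.X648S2
import Cfsg.Agent.Helper22.X648S3
import Cfsg.Agent.Helper12.X648S4
import Cfsg.Agent.Helper12.X648S5
import Cfsg.Agent.Helper65.X648A0a
import Cfsg.Agent.Helper65.X648A0b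
import Cfsg.Agent.Helper45.X648A0c
import Cfsg.Agent.Helper65.X648A0d
import Cfsg.Agent.Helper65.X648A0e
import Cfsg.Agent.Helper45.X648A0f
import Cfsg.Agent.Helper65.X648A0g
import Cfsg.Agent.Helper89.X648A1
import Cfsg.Agent.Helper3.X648A2
import Cfsg.Agent.Helper42.X648A3
import Cfsg.Agent.Helper89.X648A4
import Cfsg.Agent.Helper3.X648A5
import Cfsg.Agent.Helper24.X648A6
import Cfsg.Agent.Helper24.X648A7
import Cfsg.Agent.Helper24.X648A8
import Cfsg.Agent.Helper30.X648A9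
import Cfsg.Agent.Helper30.X648A10
import Cfsg.Agent.Helper42.X648A11
import Cfsg.Agent.Helper68.X648A12
import Cfsg.Agent.Helper37.X648A13
import Cfsg.Agent.Helper68.X648A14
import Cfsg.Agent.Helper89.X648A15a
import Cfsg.Agent.Helper66.X648A15b
import Cfsg.Agent.Helper89.X648A15c
import Cfsg.Agent.Helper37.X648A16
import Cfsg.Agent.Helper52.X648A17a
import Cfsg.Agent.Helper52.X648A17b
import Cfsg.Agent.Helper29.X648A17c
import Cfsg.Agent.Helper29.X648A18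
import Cfsg.Agent.Helper22.X648K1
import Cfsg.Agent.Helper59.X648K2
import Cfsg.Agent.Helper59.X648K3
import Cfsg.Agent.Helper31.X648K4
import Cfsg.Agent.Helper49.X648K5a
import Cfsg.Agent.Helper22.X648K5b
import Cfsg.Agent.Helper31.X648K5c
import Cfsg.Agent.Helper49.X648K5
import Cfsg.Agent.Helper66.X648K6
import Cfsg.Agent.Helper66.X648K7
import Cfsg.Agent.Helper96.UFour
import Cfsg.Prelude.Def_Transfer
import Cfsg.Prelude.Def_CaseTheorems

/-!
# S3366 (helper39): assembly of the pieces delivered by the team (see departures/helper39.md).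

Deliver piece (L) as `Cfsg/Agent/<Seat>/X648<L>.lean`, namespace `Cfsg.Agent.<Seat>.X648`, theorem
name as below, statement VERBATIM.  Header for the abstract pieces:
`import Cfsg.Agent.Helper39.X648.Defs` (only Mathlib behind it) and
`open Cfsg.Agent.Helper39.X648`; for the concrete pieces `import Cfsg.Agent.Helper39.X648.Conc`
(plus whatever library you need).
-/

set_option autoImplicit false

namespace Cfsg.Agent.Helper39.X648

/-! ## Part B: the relations bound the order -/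

section B
variable {H : Type*} [Group H]

/-- (B1) one step of a polycyclic chain -/
theorem card_sup_zpowers_le [Finite H] (M : Subgroup H) (g : H) (n : ℕ) (hn : 0 < n)
    (hg : g ^ n ∈ M) (hnorm : ∀ m ∈ M, g * m * g⁻¹ ∈ M) :
    Nat.card ↥(M ⊔ Subgroup.zpowers g) ≤ n * Nat.card M := by
  exact Cfsg.Agent.Helper33.X648.card_sup_zpowers_le M g n hn hg hnorm

/-- (B2) the chain `c, r1, r2, i, j, d` with factors `3, 3, 3, 4, 2, 3` -/
theorem card_le_of_rel [Finite H] (r1 r2 i j d : H) (h : Rel r1 r2 i j d)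
    (hgen : Subgroup.closure {r1, r2, i, j, d} = ⊤)
    (hstep : ∀ (M : Subgroup H) (g : H) (n : ℕ), 0 < n → g ^ n ∈ M →
      (∀ m ∈ M, g * m * g⁻¹ ∈ M) → Nat.card ↥(M ⊔ Subgroup.zpowers g) ≤ n * Nat.card M) :
    Nat.card H ≤ 648 := by
  exact Cfsg.Agent.Helper33.X648.card_le_of_rel r1 r2 i j d h hgen hstep

/-- (B3) relations under homomorphisms -/
theorem Rel.map {K : Type*} [Group K] (f : H →* K) {r1 r2 i j d : H} (h : Rel r1 r2 i j d) :
    Rel (f r1) (f r2) (f i) (f j) (f d) := by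
  exact Cfsg.Agent.Helper65.X648.Rel.map f h

/-- (B4) -/
theorem Rel.of_map {K : Type*} [Group K] (f : H →* K) (hf : Function.Injective f)
    {r1 r2 i j d : H} (h : Rel (f r1) (f r2) (f i) (f j) (f d)) : Rel r1 r2 i j d := by
  exact Cfsg.Agent.Helper33.X648.Rel.of_map f hf h

/-- (B5) -/
theorem Rel.prod {K : Type*} [Group K] {r1 r2 i j d : H} {s1 s2 i' j' d' : K}
    (h1 : Rel r1 r2 i j d) (h2 : Rel s1 s2 i' j' d') :
    Rel ((r1, s1) : H × K) (r2, s2) (i, i') (j, j') (d, d') := by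
  exact Cfsg.Agent.Helper65.X648.Rel.prod h1 h2

/-- (B6) the diagonal-subgroup trick -/
theorem nonempty_mulEquiv_of_rel {G K : Type*} [Group G] [Group K] [Finite G] [Finite K]
    (hG : Nat.card G = 648) (hK : Nat.card K = 648) (r1 r2 i j d : G) (s1 s2 i' j' d' : K)
    (h1 : Rel r1 r2 i j d) (h2 : Rel s1 s2 i' j' d')
    (g1 : Subgroup.closure {r1, r2, i, j, d} = ⊤)
    (g2 : Subgroup.closure {s1, s2, i', j', d'} = ⊤)
    (hprod : Rel ((r1, s1) : G × K) (r2, s2) (i, i') (j, j') (d, d'))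
    (hB : ∀ (D : Subgroup (G × K)) (a b c e f : D), Rel a b c e f →
      Subgroup.closure {a, b, c, e, f} = ⊤ → Nat.card D ≤ 648) :
    Nonempty (G ≃* K) := by
  exact Cfsg.Agent.Helper33.X648.nonempty_mulEquiv_of_rel hG hK r1 r2 i j d s1 s2 i' j' d' h1 h2 g1 g2 hprod hB

end B

/-! ## Part S: facts about `SL_2(3)` -/

/-- (S1) -/
theorem sl_card : Nat.card SL23 = 24 := by
  exact Cfsg.Agent.Helper22.X648.sl_card

/-- (S2) -/
theorem sl_w : wSL ≠ 1 ∧ wSL * wSL = 1 ∧ (∀ g : SL23, g * wSL = wSL * g) ∧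
    (∀ g : SL23, g * g = 1 → g = 1 ∨ g = wSL) ∧ (∀ g : SL23, g ^ 8 = 1 → g ^ 4 = 1) := by
  exact Cfsg.Agent.Helper66.X648.sl_w

/-- (S3) -/
theorem sl_w_mem : ∀ N : Subgroup SL23, N.Normal → N ≠ ⊥ → wSL ∈ N := by
  exact Cfsg.Agent.Helper22.X648.sl_w_mem

/-- (S4) -/
theorem sl_no_idx2 : ∀ N : Subgroup SL23, N.index = 2 → False := by
  exact Cfsg.Agent.Helper12.X648.sl_no_idx2

/-- (S5) -/
theorem sl_syl2 : ∃ M : Subgroup SL23, M.Normal ∧ Nat.card M = 8 := by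
  exact Cfsg.Agent.Helper12.X648.sl_syl2

theorem slFacts : SLFacts wSL where
  card := sl_card
  w_ne := sl_w.1
  w_sq := sl_w.2.1
  w_cen := sl_w.2.2.1
  w_uniq := sl_w.2.2.2.1
  w_mem := sl_w_mem
  no_idx2 := sl_no_idx2
  no8 := sl_w.2.2.2.2
  syl2 := sl_syl2

/-! ## Part A0: from the hypotheses of S3366 to `Base` -/

section A0
variable {X : Type*} [Group X] [Finite X]

/-- (A0a) the part of `Base` about `R` alone -/
theorem base_R (hR : Cfsg.IsExtraspecial 3 (Cfsg.pCore 3 X))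
    (hRcard : Nat.card (Cfsg.pCore 3 X) = 27) :
    Nat.card ↥((Subgroup.center (Cfsg.pCore 3 X)).map (Cfsg.pCore 3 X).subtype) = 3 ∧
    (∀ z : X, z ∈ (Subgroup.center (Cfsg.pCore 3 X)).map (Cfsg.pCore 3 X).subtype ↔
      z ∈ Cfsg.pCore 3 X ∧ ∀ r ∈ Cfsg.pCore 3 X, r * z = z * r) ∧
    (∀ r ∈ Cfsg.pCore 3 X, ∀ s ∈ Cfsg.pCore 3 X,
      r * s * r⁻¹ * s⁻¹ ∈ (Subgroup.center (Cfsg.pCore 3 X)).map (Cfsg.pCore 3 X).subtype) := by
  exact Cfsg.Agent.Helper65.X648.base_R hR hRcard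

/-- (A0b) -/
theorem base_O2 (hO2 : Cfsg.pCore 2 X = ⊥) :
    ∀ N : Subgroup X, N.Normal → IsPGroup 2 N → N = ⊥ := by
  exact Cfsg.Agent.Helper65.X648.base_O2 hO2

variable {R : Subgroup X} {π : X →* SL23}

/-- (A0c) the pointwise facts about `u` -/
theorem base_u (hπ : Function.Surjective π) (hker : ∀ g : X, π g = 1 ↔ g ∈ R)
    (hSL : SLFacts wSL) (u : X) (hu : π u = wSL) :
    u ∉ R ∧ u * u ∈ R ∧ (∀ g : X, g * u * g⁻¹ * u⁻¹ ∈ R) ∧
    (∀ g : X, g * g ∈ R → g ∈ R ∨ g * u⁻¹ ∈ R) ∧ (∀ g : X, g ^ 8 ∈ R → g ^ 4 ∈ R) := by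
  exact Cfsg.Agent.Helper45.X648.base_u hπ hker hSL u hu

/-- (A0d) -/
theorem base_card (hπ : Function.Surjective π) (hker : ∀ g : X, π g = 1 ↔ g ∈ R)
    (hSL : SLFacts wSL) (hRcard : Nat.card R = 27) : Nat.card X = 648 := by
  exact Cfsg.Agent.Helper65.X648.base_card hπ hker hSL hRcard

/-- (A0e) -/
theorem base_no_idx2 (hπ : Function.Surjective π) (hker : ∀ g : X, π g = 1 ↔ g ∈ R)
    (hSL : SLFacts wSL) : ∀ N : Subgroup X, R ≤ N → N.index = 2 → False := by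
  exact Cfsg.Agent.Helper65.X648.base_no_idx2 hπ hker hSL

/-- (A0f) -/
theorem base_u_normal (hπ : Function.Surjective π) (hker : ∀ g : X, π g = 1 ↔ g ∈ R)
    (hSL : SLFacts wSL) (u : X) (hu : π u = wSL) :
    ∀ N : Subgroup X, N.Normal → R ≤ N → N ≠ R → u ∈ N := by
  exact Cfsg.Agent.Helper45.X648.base_u_normal hπ hker hSL u hu

/-- (A0g) -/
theorem base_syl2 (hπ : Function.Surjective π) (hker : ∀ g : X, π g = 1 ↔ g ∈ R)
    (hSL : SLFacts wSL) (hRcard : Nat.card R = 27) :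
    ∃ M : Subgroup X, M.Normal ∧ R ≤ M ∧ Nat.card M = 216 := by
  exact Cfsg.Agent.Helper65.X648.base_syl2 hπ hker hSL hRcard

theorem exists_pi (e : X ⧸ Cfsg.pCore 3 X ≃* Matrix.SpecialLinearGroup (Fin 2) (ZMod 3)) :
    ∃ π : X →* SL23, Function.Surjective π ∧ ∀ g : X, π g = 1 ↔ g ∈ Cfsg.pCore 3 X := by
  refine ⟨e.toMonoidHom.comp (QuotientGroup.mk' _), ?_, ?_⟩
  · intro y
    obtain ⟨x, hx⟩ := QuotientGroup.mk'_surjective (Cfsg.pCore 3 X) (e.symm y)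
    refine ⟨x, ?_⟩
    show e (QuotientGroup.mk' _ x) = y
    rw [hx, MulEquiv.apply_symm_apply]
  · intro g
    constructor
    · intro h
      have h1 : e (QuotientGroup.mk' _ g) = 1 := h
      have h2 : (QuotientGroup.mk' (Cfsg.pCore 3 X) g) = 1 := by
        have := e.injective (h1.trans (map_one e).symm)
        exact this
      exact (QuotientGroup.eq_one_iff g).1 h2
    · intro h
      have h2 : (QuotientGroup.mk' (Cfsg.pCore 3 X) g) = 1 := (QuotientGroup.eq_one_iff g).2 h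
      show e (QuotientGroup.mk' _ g) = 1
      rw [h2, map_one]

theorem exists_base (hR : Cfsg.IsExtraspecial 3 (Cfsg.pCore 3 X))
    (hRcard : Nat.card (Cfsg.pCore 3 X) = 27) (hRexp : ∀ r ∈ Cfsg.pCore 3 X, r ^ 3 = 1)
    (e : X ⧸ Cfsg.pCore 3 X ≃* Matrix.SpecialLinearGroup (Fin 2) (ZMod 3))
    (hO2 : Cfsg.pCore 2 X = ⊥) :
    ∃ u : X, Base (Cfsg.pCore 3 X)
      ((Subgroup.center (Cfsg.pCore 3 X)).map (Cfsg.pCore 3 X).subtype) u := by
  obtain ⟨π, hπ, hker⟩ := exists_pi e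
  obtain ⟨u, hu⟩ := hπ wSL
  have hS := slFacts
  obtain ⟨h1, h2, h3⟩ := base_R hR hRcard
  obtain ⟨k1, k2, k3, k4, k5⟩ := base_u hπ hker hS u hu
  refine ⟨u, ?_⟩
  exact
    { cardX := base_card hπ hker hS hRcard
      cardR := hRcard
      cardZ := h1
      normR := inferInstance
      Z_le := fun z hz => ((h2 z).1 hz).1
      mem_Z := h2
      exp3 := hRexp
      comm_mem := h3
      noO2 := base_O2 hO2
      u_not := k1
      u_sq := k2
      u_cen := k3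
      u_uniq := k4
      no_idx2 := base_no_idx2 hπ hker hS
      u_normal := base_u_normal hπ hker hS u hu
      no8 := k5
      syl2 := base_syl2 hπ hker hS hRcard }

end A0

/-! ## Part A: the abstract group -/

section A
variable {X : Type*} [Group X] [Finite X] {R Z : Subgroup X} {u : X}

/-- (A1) `Z` is central in `X` -/
theorem Base.Zcen (h : Base R Z u) : ∀ z ∈ Z, ∀ g : X, g * z = z * g := by
  exact Cfsg.Agent.Helper89.X648.Base.Zcen h

/-- (A2) `C_X(R) = Z` -/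
theorem Base.CR (h : Base R Z u) (hZ : ∀ z ∈ Z, ∀ g : X, g * z = z * g) :
    ∀ g : X, (∀ r ∈ R, g * r = r * g) → g ∈ Z := by
  exact Cfsg.Agent.Helper3.X648.Base.CR h hZ

/-- (A3) an involution above `u` -/
theorem Base.exists_t (h : Base R Z u) : ∃ t : X, orderOf t = 2 ∧ t * u⁻¹ ∈ R := by
  exact Cfsg.Agent.Helper42.X648.Base.exists_t h

/-- (A4) conjugates of `t` are `R`-conjugates (Frattini) -/
theorem Base.frattini (h : Base R Z u) (t : X) (ht : orderOf t = 2) (htu : t * u⁻¹ ∈ R) :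
    ∀ g : X, ∃ r ∈ R, (r⁻¹ * g) * t = t * (r⁻¹ * g) := by
  exact Cfsg.Agent.Helper89.X648.Base.frattini h t ht htu

/-- (A5) `C_R(t) = Z` -/
theorem Base.fix_t (h : Base R Z u) (hZ : ∀ z ∈ Z, ∀ g : X, g * z = z * g)
    (hCR : ∀ g : X, (∀ r ∈ R, g * r = r * g) → g ∈ Z)
    (t : X) (ht : orderOf t = 2) (htu : t * u⁻¹ ∈ R)
    (hfrat : ∀ g : X, ∃ r ∈ R, (r⁻¹ * g) * t = t * (r⁻¹ * g)) :
    ∀ r ∈ R, t * r = r * t → r ∈ Z := by
  exact Cfsg.Agent.Helper3.X648.Base.fix_t h hZ hCR t ht htu hfrat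

/-- (A6) `t` inverts `R / Z` -/
theorem Base.inv_t (h : Base R Z u) (hZ : ∀ z ∈ Z, ∀ g : X, g * z = z * g)
    (t : X) (ht : orderOf t = 2) (hfix : ∀ r ∈ R, t * r = r * t → r ∈ Z) :
    ∀ r ∈ R, t * r * t⁻¹ * r ∈ Z := by
  exact Cfsg.Agent.Helper24.X648.Base.inv_t h hZ t ht hfix

/-- (A7) the inverted elements are coset representatives of `Z` in `R` -/
theorem Base.inv_rep (h : Base R Z u) (hZ : ∀ z ∈ Z, ∀ g : X, g * z = z * g)
    (t : X) (ht : orderOf t = 2) (hinv : ∀ r ∈ R, t * r * t⁻¹ * r ∈ Z) :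
    (∀ r ∈ R, ∃ z ∈ Z, r * z ∈ Inv R t) ∧
      (∀ r ∈ Inv R t, ∀ z ∈ Z, r * z ∈ Inv R t → z = 1) := by
  exact Cfsg.Agent.Helper24.X648.Base.inv_rep h hZ t ht hinv

theorem Base.exists_setup (h : Base R Z u) : ∃ t : X, Setup R Z u t := by
  have hZ := h.Zcen
  have hCR := h.CR hZ
  obtain ⟨t, ht, htu⟩ := h.exists_t
  have hfrat := h.frattini t ht htu
  have hfix := h.fix_t hZ hCR t ht htu hfrat
  have hinv := h.inv_t hZ t ht hfix
  obtain ⟨hrep1, hrep2⟩ := h.inv_rep hZ t ht hinv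
  exact ⟨t, ⟨h, hZ, hCR, ht, htu, hfrat, hfix, hinv, hrep1, hrep2⟩⟩

variable {t : X}

/-- (A8) `|C_X(t)| = 72` -/
theorem Setup.card_K (h : Setup R Z u t) :
    Nat.card ↥(Subgroup.centralizer ({t} : Set X)) = 72 := by
  exact Cfsg.Agent.Helper24.X648.Setup.card_K h

/-- (A9) the quaternion subgroup -/
theorem Setup.exists_Q (h : Setup R Z u t)
    (hK : Nat.card ↥(Subgroup.centralizer ({t} : Set X)) = 72) :
    ∃ Q : Subgroup X, IsQ t Q := by
  exact Cfsg.Agent.Helper30.X648.Setup.exists_Q h hK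

/-- (A10) `Q` acts regularly on the non-identity inverted elements -/
theorem Setup.regular (h : Setup R Z u t) (Q : Subgroup X) (hQ : IsQ t Q) :
    ∀ r ∈ Inv R t, r ≠ 1 → ∀ s ∈ Inv R t, s ≠ 1 →
      ∃ q ∈ Q, q * r * q⁻¹ = s ∧ ∀ q' ∈ Q, q' * r * q'⁻¹ = s → q' = q := by
  exact Cfsg.Agent.Helper30.X648.Setup.regular h Q hQ

theorem Setup.exists_qsetup (h : Setup R Z u t) : ∃ Q : Subgroup X, QSetup R Z u t Q := by
  obtain ⟨Q, hQ⟩ := h.exists_Q h.card_K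
  exact ⟨Q, ⟨h, hQ, h.regular Q hQ⟩⟩

variable {Q : Subgroup X}

/-- (A11) starting data: `i ∈ Q` of order 4 and `r1 ≠ 1` inverted -/
theorem QSetup.exists_i_r1 (h : QSetup R Z u t Q) :
    ∃ i r1 : X, i ∈ Q ∧ i ≠ 1 ∧ i ≠ t ∧ r1 ∈ Inv R t ∧ r1 ≠ 1 := by
  exact Cfsg.Agent.Helper42.X648.QSetup.exists_i_r1 h

/-- (A12) `r2 = i r1 i⁻¹` and `c = [r1, r2]` -/
theorem QSetup.gens (h : QSetup R Z u t Q) (i r1 : X) (hi : i ∈ Q) (hi1 : i ≠ 1) (hit : i ≠ t)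
    (hr1 : r1 ∈ Inv R t) (hr11 : r1 ≠ 1) : Gens R Z t Q i r1 := by
  exact Cfsg.Agent.Helper68.X648.QSetup.gens h i r1 hi hi1 hit hr1 hr11

variable {i r1 : X}

/-- (A13) normal form in `R` -/
theorem QSetup.normal_form (h : QSetup R Z u t Q) (hg : Gens R Z t Q i r1) :
    ∀ r ∈ R, ∃ a b : ℕ, ∃ z ∈ Z, r = r1 ^ a * (i * r1 * i⁻¹) ^ b * z := by
  exact Cfsg.Agent.Helper37.X648.QSetup.normal_form h hg

/-- (A14) the element `j` -/
theorem QSetup.exists_j (h : QSetup R Z u t Q) (hg : Gens R Z t Q i r1) :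
    ∃ j ∈ Q, j * r1 * j⁻¹ = r1 * (i * r1 * i⁻¹) * cm r1 (i * r1 * i⁻¹) ∧ j * j = i * i ∧
      j * i * j⁻¹ = i⁻¹ := by
  exact Cfsg.Agent.Helper68.X648.QSetup.exists_j h hg

/-- (A15a) from the elementary abelian subgroup of order 27: an element of order 3 outside `R`
centralising a non-central element of `R` -/
theorem Base.exists_e (h : Base R Z u) (hZ : ∀ z ∈ Z, ∀ g : X, g * z = z * g)
    (hE : ∃ E : Subgroup X, IsMulCommutative E ∧ (∀ a ∈ E, a ^ 3 = 1) ∧ Nat.card E = 27) :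
    ∃ e a : X, e ∉ R ∧ e ^ 3 = 1 ∧ a ∈ R ∧ a ∉ Z ∧ e * a = a * e := by
  exact Cfsg.Agent.Helper89.X648.Base.exists_e h hZ hE

/-- (A15b) move it to `r1` -/
theorem QSetup.exists_e' (h : QSetup R Z u t Q) (hr1 : r1 ∈ Inv R t) (hr11 : r1 ≠ 1)
    (he : ∃ e a : X, e ∉ R ∧ e ^ 3 = 1 ∧ a ∈ R ∧ a ∉ Z ∧ e * a = a * e) :
    ∃ e : X, e ∉ R ∧ e ^ 3 = 1 ∧ e * r1 = r1 * e := by
  exact Cfsg.Agent.Helper66.X648.QSetup.exists_e' h hr1 hr11 he

/-- (A15c) correct it by a power of `r1` so that it commutes with `t` -/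
theorem QSetup.exists_d0 (h : QSetup R Z u t Q) (hg : Gens R Z t Q i r1)
    (hnf : ∀ r ∈ R, ∃ a b : ℕ, ∃ z ∈ Z, r = r1 ^ a * (i * r1 * i⁻¹) ^ b * z)
    (he : ∃ e : X, e ∉ R ∧ e ^ 3 = 1 ∧ e * r1 = r1 * e) :
    ∃ d : X, d * t = t * d ∧ d * r1 = r1 * d ∧ d ∉ R ∧ d ^ 3 = 1 := by
  exact Cfsg.Agent.Helper89.X648.QSetup.exists_d0 h hg hnf he

/-- (A16) normalising `d` -/
theorem QSetup.exists_d (h : QSetup R Z u t Q) (hg : Gens R Z t Q i r1)
    (hnf : ∀ r ∈ R, ∃ a b : ℕ, ∃ z ∈ Z, r = r1 ^ a * (i * r1 * i⁻¹) ^ b * z)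
    (hd0 : ∃ d : X, d * t = t * d ∧ d * r1 = r1 * d ∧ d ∉ R ∧ d ^ 3 = 1) :
    ∃ d : X, d * t = t * d ∧ d * r1 = r1 * d ∧ d ∉ R ∧ d ^ 3 = 1 ∧
      d * (i * r1 * i⁻¹) * d⁻¹ = r1 * (i * r1 * i⁻¹) * cm r1 (i * r1 * i⁻¹) := by
  exact Cfsg.Agent.Helper37.X648.QSetup.exists_d h hg hnf hd0

variable {j d : X}

/-- (A17a) the relation `j r2 j⁻¹ = r1 r2⁻¹ c⁻¹` -/
theorem QSetup.rel_j_r2 (h : QSetup R Z u t Q) (hg : Gens R Z t Q i r1)
    (hj1 : j * r1 * j⁻¹ = r1 * (i * r1 * i⁻¹) * cm r1 (i * r1 * i⁻¹))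
    (hji : j * i * j⁻¹ = i⁻¹) :
    j * (i * r1 * i⁻¹) * j⁻¹ = r1 * (i * r1 * i⁻¹)⁻¹ * (cm r1 (i * r1 * i⁻¹))⁻¹ := by
  exact Cfsg.Agent.Helper52.X648.QSetup.rel_j_r2 h hg hj1 hji

/-- (A17b) the relation `d i d⁻¹ = j` -/
theorem QSetup.rel_d_i (h : QSetup R Z u t Q) (hg : Gens R Z t Q i r1) (hj : j ∈ Q)
    (hj1 : j * r1 * j⁻¹ = r1 * (i * r1 * i⁻¹) * cm r1 (i * r1 * i⁻¹))
    (hdt : d * t = t * d) (hd1 : d * r1 = r1 * d)
    (hd2 : d * (i * r1 * i⁻¹) * d⁻¹ = r1 * (i * r1 * i⁻¹) * cm r1 (i * r1 * i⁻¹)) :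
    d * i * d⁻¹ = j := by
  exact Cfsg.Agent.Helper52.X648.QSetup.rel_d_i h hg hj hj1 hdt hd1 hd2

/-- (A17c) the relation `d j d⁻¹ = i j` -/
theorem QSetup.rel_d_j (h : QSetup R Z u t Q) (hg : Gens R Z t Q i r1) (hj : j ∈ Q)
    (hj1 : j * r1 * j⁻¹ = r1 * (i * r1 * i⁻¹) * cm r1 (i * r1 * i⁻¹))
    (hdt : d * t = t * d) (hd1 : d * r1 = r1 * d)
    (hd2 : d * (i * r1 * i⁻¹) * d⁻¹ = r1 * (i * r1 * i⁻¹) * cm r1 (i * r1 * i⁻¹)) :
    d * j * d⁻¹ = i * j := by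
  exact Cfsg.Agent.Helper29.X648.QSetup.rel_d_j h hg hj hj1 hdt hd1 hd2

/-- (A18) generation -/
theorem QSetup.gen (h : QSetup R Z u t Q) (hg : Gens R Z t Q i r1)
    (hnf : ∀ r ∈ R, ∃ a b : ℕ, ∃ z ∈ Z, r = r1 ^ a * (i * r1 * i⁻¹) ^ b * z)
    (hj : j ∈ Q) (hji : j * i * j⁻¹ = i⁻¹) (hdR : d ∉ R) (hd3 : d ^ 3 = 1) :
    Subgroup.closure {r1, i * r1 * i⁻¹, i, j, d} = ⊤ := by
  exact Cfsg.Agent.Helper29.X648.QSetup.gen h hg hnf hj hji hdR hd3

theorem QSetup.rel (h : QSetup R Z u t Q) (hg : Gens R Z t Q i r1) (hj : j ∈ Q)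
    (hj1 : j * r1 * j⁻¹ = r1 * (i * r1 * i⁻¹) * cm r1 (i * r1 * i⁻¹))
    (hjj : j * j = i * i) (hji : j * i * j⁻¹ = i⁻¹)
    (hdt : d * t = t * d) (hd1 : d * r1 = r1 * d) (hd3 : d ^ 3 = 1)
    (hd2 : d * (i * r1 * i⁻¹) * d⁻¹ = r1 * (i * r1 * i⁻¹) * cm r1 (i * r1 * i⁻¹)) :
    Rel r1 (i * r1 * i⁻¹) i j d := by
  have hs := h.setup
  have hb := hs.base
  have hc : ∀ g : X, cm r1 (i * r1 * i⁻¹) * g = g * cm r1 (i * r1 * i⁻¹) :=
    fun g => (hs.Zcen _ hg.c_mem g).symm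
  have ht2 : t * t = 1 := by
    have := pow_orderOf_eq_one t
    rw [hs.t_ord, pow_two] at this
    exact this
  exact
    { r1_3 := hb.exp3 r1 hg.r1_mem.1
      r2_3 := hb.exp3 _ hg.r2_mem.1
      c_3 := hb.exp3 _ (hb.Z_le hg.c_mem)
      c_r1 := hc r1
      c_r2 := hc _
      c_i := hc i
      c_j := hc j
      c_d := hc d
      i_4 := by
        have : i ^ 4 = (i * i) * (i * i) := by
          rw [pow_succ, pow_succ, pow_succ, pow_one, mul_assoc]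
        rw [this, hg.i_sq, ht2]
      j_sq := hjj
      j_i := hji
      d_3 := hd3
      i_r1 := rfl
      i_r2 := hg.i_r2
      j_r1 := hj1
      j_r2 := h.rel_j_r2 hg hj1 hji
      d_r1 := by rw [hd1, mul_inv_cancel_right]
      d_r2 := hd2
      d_i := h.rel_d_i hg hj hj1 hdt hd1 hd2
      d_j := h.rel_d_j hg hj hj1 hdt hd1 hd2 }

/-- the abstract half of S3366 -/
theorem Base.exists_gens (h : Base R Z u)
    (hE : ∃ E : Subgroup X, IsMulCommutative E ∧ (∀ a ∈ E, a ^ 3 = 1) ∧ Nat.card E = 27) :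
    ∃ r1 r2 i j d : X, Rel r1 r2 i j d ∧ Subgroup.closure {r1, r2, i, j, d} = ⊤ := by
  obtain ⟨t, hs⟩ := h.exists_setup
  obtain ⟨Q, hq⟩ := hs.exists_qsetup
  obtain ⟨i, r1, hi, hi1, hit, hr1, hr11⟩ := hq.exists_i_r1
  have hg := hq.gens i r1 hi hi1 hit hr1 hr11
  have hnf := hq.normal_form hg
  obtain ⟨j, hj, hj1, hjj, hji⟩ := hq.exists_j hg
  have he := h.exists_e hs.Zcen hE
  have he' := hq.exists_e' hr1 hr11 he
  have hd0 := hq.exists_d0 hg hnf he'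
  obtain ⟨d, hdt, hd1, hdR, hd3, hd2⟩ := hq.exists_d hg hnf hd0
  exact ⟨r1, i * r1 * i⁻¹, i, j, d, hq.rel hg hj hj1 hjj hji hdt hd1 hd3 hd2,
    hq.gen hg hnf hj hji hdR hd3⟩

end A

/-! ## Part K: the concrete group -/

section K

/-- `PSp_4(3)` -/
abbrev P3 : Type := Sp3 ⧸ Subgroup.center Sp3

/-- (K1) orbit–stabiliser: `Sp_4(3)` (order 51840, `Cfsg.Agent.S0245.result`) is transitive on the
80 non-zero vectors (`Cfsg.Agent.Helper13.exists_transvection_map_of_ne_zero`) -/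
theorem card_St : Nat.card ↥St = 648 := by
  exact Cfsg.Agent.Helper22.X648.card_St

/-- (K2) the relations hold for the matrices -/
theorem rel_conc : Rel gR1 gR2 gI gJ gD := by
  exact Cfsg.Agent.Helper59.X648.rel_conc

/-- (K3) the matrices generate at least 648 elements -/
theorem card_closure_ge :
    648 ≤ Nat.card ↥(Subgroup.closure ({gR1, gR2, gI, gJ, gD} : Set Sp3)) := by
  exact Cfsg.Agent.Helper59.X648.card_closure_ge

/-- (K4) -/
theorem orderOf_cT : orderOf cT = 3 := by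
  exact Cfsg.Agent.Helper31.X648.orderOf_cT

/-- (K5a) -/
theorem St_le : ∀ g ∈ St, (QuotientGroup.mk g : P3) ∈ Subgroup.centralizer ({cT} : Set P3) := by
  exact Cfsg.Agent.Helper49.X648.St_le

/-- (K5b) -/
theorem le_St : ∀ g : Sp3, (QuotientGroup.mk g : P3) ∈ Subgroup.centralizer ({cT} : Set P3) →
    ∃ s ∈ St, (QuotientGroup.mk s : P3) = QuotientGroup.mk g := by
  exact Cfsg.Agent.Helper22.X648.le_St

/-- (K5c) -/
theorem St_inj : ∀ s ∈ St, (QuotientGroup.mk s : P3) = 1 → s = 1 := by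
  exact Cfsg.Agent.Helper31.X648.St_inj

/-- (K5) -/
theorem St_equiv
    (h1 : ∀ g ∈ St, (QuotientGroup.mk g : P3) ∈ Subgroup.centralizer ({cT} : Set P3))
    (h2 : ∀ g : Sp3, (QuotientGroup.mk g : P3) ∈ Subgroup.centralizer ({cT} : Set P3) →
      ∃ s ∈ St, (QuotientGroup.mk s : P3) = QuotientGroup.mk g)
    (h3 : ∀ s ∈ St, (QuotientGroup.mk s : P3) = 1 → s = 1) :
    Nonempty (↥St ≃* ↥(Subgroup.centralizer ({cT} : Set P3))) := by
  exact Cfsg.Agent.Helper49.X648.St_equiv h1 h2 h3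

/-- (K6) a Sylow 3-subgroup with `c` in its centre -/
theorem exists_sylow {G : Type*} [Group G] [Finite G] (c : G) (hc : orderOf c = 3)
    (hC : Nat.card ↥(Subgroup.centralizer ({c} : Set G)) = 648) (hG : Nat.card G = 25920) :
    ∃ S : Sylow 3 G, c ∈ (S : Subgroup G) ∧
      c ∈ Subgroup.centralizer ((S : Subgroup G) : Set G) := by
  exact Cfsg.Agent.Helper66.X648.exists_sylow c hc hC hG

/-- (K7) transport along an isomorphism -/
theorem transport {G G' : Type*} [Group G] [Group G'] [Finite G] (ψ : G ≃* G') (c : G)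
    (S : Sylow 3 G) (hc : orderOf c = 3) (hS : c ∈ (S : Subgroup G))
    (hcS : c ∈ Subgroup.centralizer ((S : Subgroup G) : Set G))
    {X : Type*} [Group X] (eX : X ≃* ↥(Subgroup.centralizer ({c} : Set G))) :
    ∃ (c' : G') (S' : Sylow 3 G'), orderOf c' = 3 ∧ c' ∈ (S' : Subgroup G') ∧
      c' ∈ Subgroup.centralizer ((S' : Subgroup G') : Set G') ∧
      Nonempty (X ≃* ↥(Subgroup.centralizer ({c'} : Set G'))) := by
  exact Cfsg.Agent.Helper66.X648.transport ψ c S hc hS hcS eX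

theorem closure_eq_St : Subgroup.closure ({gR1, gR2, gI, gJ, gD} : Set Sp3) = St := by
  have hle : Subgroup.closure ({gR1, gR2, gI, gJ, gD} : Set Sp3) ≤ St := by
    rw [Subgroup.closure_le]
    intro x hx
    simp only [Set.mem_insert_iff, Set.mem_singleton_iff] at hx
    rcases hx with rfl | rfl | rfl | rfl | rfl
    · exact gR1_mem
    · exact gR2_mem
    · exact gI_mem
    · exact gJ_mem
    · exact gD_mem
  apply Subgroup.eq_of_le_of_card_ge hle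
  rw [card_St]
  exact card_closure_ge

/-- the generators as elements of `St` -/
def sR1 : ↥St := ⟨gR1, gR1_mem⟩
def sR2 : ↥St := ⟨gR2, gR2_mem⟩
def sI : ↥St := ⟨gI, gI_mem⟩
def sJ : ↥St := ⟨gJ, gJ_mem⟩
def sD : ↥St := ⟨gD, gD_mem⟩

theorem closure_St : Subgroup.closure ({sR1, sR2, sI, sJ, sD} : Set ↥St) = ⊤ := by
  apply Subgroup.map_injective St.subtype_injective
  rw [MonoidHom.map_closure, ← MonoidHom.range_eq_map, Subgroup.range_subtype]
  have : (St.subtype '' ({sR1, sR2, sI, sJ, sD} : Set ↥St)) = {gR1, gR2, gI, gJ, gD} := by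
    simp only [Set.image_insert_eq, Set.image_singleton]
    rfl
  rw [this]
  exact closure_eq_St

theorem rel_St (hmap : ∀ {r1 r2 i j d : ↥St},
    Rel (St.subtype r1) (St.subtype r2) (St.subtype i) (St.subtype j) (St.subtype d) →
      Rel r1 r2 i j d) : Rel sR1 sR2 sI sJ sD :=
  hmap rel_conc

end K

/-! ## The theorem -/

theorem main {X : Type*} [Group X] [Finite X]
    (hR : Cfsg.IsExtraspecial 3 (Cfsg.pCore 3 X)) (hRcard : Nat.card (Cfsg.pCore 3 X) = 27)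
    (hRexp : ∀ r ∈ Cfsg.pCore 3 X, r ^ 3 = 1)
    (e : X ⧸ Cfsg.pCore 3 X ≃* Matrix.SpecialLinearGroup (Fin 2) (ZMod 3))
    (hO2 : Cfsg.pCore 2 X = ⊥)
    (hE : ∃ E : Subgroup X, IsMulCommutative E ∧ (∀ a ∈ E, a ^ 3 = 1) ∧ Nat.card E = 27)
    (F : Type*) [Field F] [Fintype F] (hF : Fintype.card F = 3) :
    ∃ (c : Cfsg.PSp 2 F) (S : Sylow 3 (Cfsg.PSp 2 F)), orderOf c = 3 ∧
      c ∈ (S : Subgroup (Cfsg.PSp 2 F)) ∧
      c ∈ Subgroup.centralizer ((S : Subgroup (Cfsg.PSp 2 F)) : Set (Cfsg.PSp 2 F)) ∧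
      Nonempty (X ≃* Subgroup.centralizer ({c} : Set (Cfsg.PSp 2 F))) := by
  obtain ⟨u, hb⟩ := exists_base hR hRcard hRexp e hO2
  obtain ⟨r1, r2, i, j, d, hrel, hgen⟩ := hb.exists_gens hE
  have hrelS : Rel sR1 sR2 sI sJ sD := rel_St (fun h => Rel.of_map St.subtype St.subtype_injective h)
  obtain ⟨e1⟩ := nonempty_mulEquiv_of_rel hb.cardX card_St r1 r2 i j d sR1 sR2 sI sJ sD hrel hrelS
    hgen closure_St (Rel.prod hrel hrelS)
    (fun D a b c e f hr hg => card_le_of_rel a b c e f hr hg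
      (fun M g n hn hgn hnorm => card_sup_zpowers_le M g n hn hgn hnorm))
  obtain ⟨e2⟩ := St_equiv St_le le_St St_inj
  have hP : Nat.card P3 = 25920 := Cfsg.Agent.Helper96.UFour.card_PSp
  haveI : Finite P3 := Nat.finite_of_card_ne_zero (by rw [hP]; norm_num)
  have hC : Nat.card ↥(Subgroup.centralizer ({cT} : Set P3)) = 648 := by
    rw [← Nat.card_congr e2.toEquiv, card_St]
  obtain ⟨S, hS1, hS2⟩ := exists_sylow cT orderOf_cT hC hP
  have ψ : P3 ≃* Cfsg.PSp 2 F :=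
    Cfsg.Agent.Helper96.quotientCenterCongr
      (Cfsg.Agent.Helper96.SpFour.symplecticMapEquiv (ZMod.ringEquivOfPrime F Nat.prime_three hF))
  exact transport ψ cT S orderOf_cT hS1 hS2 (e1.trans e2)

end Cfsg.Agent.Helper39.X648
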